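import Groth.Agent.Lib.RegSeqLoc.Immersion
import Mathlib.AlgebraicGeometry.Noetherian
import Mathlib.RingTheory.Filtration
import Mathlib.RingTheory.Spectrum.Prime.RingHom
import Mathlib.RingTheory.Localization.AtPrime.Basic

/-!
Directed families of subschemes of a scheme over a Noetherian base which exhaust all infinitesimal fibres.
-/

universe u

open CategoryTheory CategoryTheory.Limits AlgebraicGeometry TopologicalSpace Topology

namespace GrothLib.FiltImm14

/-- A closed immersion into a Noetherian affine scheme through which the local scheme at a point factors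
has a section near the point. -/
theorem exists_section_of_stalk {Z Y : Scheme.{u}} (u : Z ⟶ Y) [IsClosedImmersion u] [IsAffine Y] [IsLocallyNoetherian Y]
    (y : Y) (l : Spec (Y.presheaf.stalk y) ⟶ Z) (hl : l ≫ u = Y.fromSpecStalk y) :
    ∃ (W : Y.Opens) (σ : (W : Scheme.{u}) ⟶ Z), y ∈ W ∧ σ ≫ u = W.ι := by
  obtain ⟨z, rfl⟩ : ∃ z, u z = y := ⟨l (IsLocalRing.closedPoint _), by
    rw [← Scheme.Hom.comp_apply, hl, Scheme.fromSpecStalk_closedPoint]⟩
  have hinj : Function.Injective (u.stalkMap z).hom := by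
    have hlz : l (IsLocalRing.closedPoint (Y.presheaf.stalk (u z))) = z := by
      refine u.isClosedEmbedding.injective ?_
      rw [← Scheme.Hom.comp_apply, hl, Scheme.fromSpecStalk_closedPoint]
    have h1 : Function.Injective (u.stalkMap (l (IsLocalRing.closedPoint (Y.presheaf.stalk (u z))))).hom := by
      have h2 : IsIso (u.stalkMap (l (IsLocalRing.closedPoint _)) ≫ Scheme.stalkClosedPointTo l) := by
        rw [← Scheme.stalkClosedPointTo_comp]
        have h3 : ∀ (f : Spec (Y.presheaf.stalk (u z)) ⟶ Y), f = Y.fromSpecStalk (u z) →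
            IsIso (Scheme.stalkClosedPointTo f) := by
          rintro f rfl
          rw [Scheme.stalkClosedPointTo_fromSpecStalk]
          infer_instance
        exact h3 _ hl
      have h4 : Function.Injective (u.stalkMap (l (IsLocalRing.closedPoint _)) ≫ Scheme.stalkClosedPointTo l) :=
        ((ConcreteCategory.isIso_iff_bijective _).mp h2).1
      exact fun a b e => h4 (congrArg (Scheme.stalkClosedPointTo l).hom e)
    exact hlz ▸ h1
  let V : Y.affineOpens := ⟨⊤, isAffineOpen_top Y⟩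
  haveI : IsNoetherianRing Γ(Y, V.1) := IsLocallyNoetherian.component_noetherian V
  obtain ⟨s, hs⟩ := IsNoetherian.noetherian (RingHom.ker (u.app V.1).hom)
  have hgerm : ∀ a ∈ RingHom.ker (u.app V.1).hom, ∃ W : Y.Opens, u z ∈ W ∧ Y.presheaf.map (homOfLE (le_top : W ≤ V.1)).op a = 0 := by
    intro a ha
    have h0 : Y.presheaf.germ V.1 (u z) trivial a = Y.presheaf.germ V.1 (u z) trivial 0 := by
      refine hinj ?_
      rw [map_zero, map_zero]
      have e := Scheme.Hom.germ_stalkMap_apply u V.1 z trivial a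
      exact e.trans (by rw [show (u.app V.1) a = 0 from ha, map_zero])
    obtain ⟨W, hzW, iU, iV, hW⟩ := TopCat.Presheaf.germ_eq Y.presheaf (u z) (Opens.mem_top _) (Opens.mem_top _) a 0 h0
    refine ⟨W, hzW, ?_⟩
    rw [map_zero] at hW
    exact hW
  choose W hzW hW using fun a : (s : Set Γ(Y, V.1)) => hgerm a.1 (hs ▸ Submodule.subset_span a.2)
  let W₀ : Y.Opens := ⟨⋂ a, (W a : Set Y), isOpen_iInter_of_finite fun a => (W a).2⟩
  have hle : u.ker ≤ W₀.ι.ker := by
    refine Scheme.IdealSheafData.le_of_isAffine ?_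
    rw [Scheme.Hom.ker_apply, Scheme.Hom.ker_apply]
    refine le_trans hs.ge (Submodule.span_le.mpr fun a ha => ?_)
    have hWa : W₀ ≤ W ⟨a, ha⟩ := fun p hp => Set.mem_iInter.mp hp _
    show (W₀.ι.app V.1) a = 0
    rw [Scheme.Opens.ι_app]
    have e : Y.presheaf.map (homOfLE (le_top : W₀ ⊓ V.1 ≤ V.1)).op a = 0 := by
      rw [show (homOfLE (le_top : W₀ ⊓ V.1 ≤ V.1)).op =
        (homOfLE (le_top : W ⟨a, ha⟩ ≤ V.1)).op ≫ (homOfLE (inf_le_left.trans hWa)).op from rfl,
        Functor.map_comp, ConcreteCategory.comp_apply, hW ⟨a, ha⟩, map_zero]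
    have hle' : W₀.ι ''ᵁ (W₀.ι ⁻¹ᵁ V.1) ≤ W₀ ⊓ V.1 :=
      le_of_eq (by rw [Scheme.Hom.image_preimage_eq_opensRange_inf, Scheme.Opens.opensRange_ι])
    have e' := congrArg (Y.presheaf.map (homOfLE hle').op) e
    rw [map_zero, ← ConcreteCategory.comp_apply, ← Functor.map_comp] at e'
    exact e'
  exact ⟨W₀, IsClosedImmersion.lift u W₀.ι hle, Set.mem_iInter.mpr hzW, IsClosedImmersion.lift_fac _ _ _⟩

/-- If the local scheme at a point factors through an immersion, the immersion is an isomorphism near it. -/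
theorem exists_isIso_restrict {Z X : Scheme.{u}} [IsLocallyNoetherian X] (i : Z ⟶ X) [IsImmersion i] (x : X)
    (l : Spec (X.presheaf.stalk x) ⟶ Z) (hl : l ≫ i = X.fromSpecStalk x) :
    ∃ W : X.Opens, x ∈ W ∧ IsIso (i ∣_ W) := by
  obtain ⟨U, hxU, hci⟩ : ∃ U : X.affineOpens, x ∈ U.1 ∧ IsClosedImmersion (i ∣_ U.1) := by
    obtain ⟨U, hU, h⟩ := GrothLib.RegSeqLoc.exists_affine_isClosedImmersion i (l (IsLocalRing.closedPoint _))
    rw [← Scheme.Hom.comp_apply, hl, Scheme.fromSpecStalk_closedPoint] at hU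
    exact ⟨U, hU, h⟩
  haveI := hci
  haveI : IsAffine (U.1 : Scheme.{u}) := U.2
  haveI : IsLocallyNoetherian (U.1 : Scheme.{u}) := isLocallyNoetherian_of_isOpenImmersion U.1.ι
  let y : (U.1 : Scheme.{u}) := ⟨x, hxU⟩
  let l₁ : Spec ((U.1 : Scheme.{u}).presheaf.stalk y) ⟶ Z := Spec.map (U.1.ι.stalkMap y) ≫ l
  have hl₁ : l₁ ≫ i = (U.1 : Scheme.{u}).fromSpecStalk y ≫ U.1.ι := by
    rw [Category.assoc]
    exact (congrArg (Spec.map (U.1.ι.stalkMap y) ≫ ·) hl).trans (Scheme.SpecMap_stalkMap_fromSpecStalk U.1.ι)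
  let l' := (isPullback_morphismRestrict i U.1).lift ((U.1 : Scheme.{u}).fromSpecStalk y) l₁ hl₁.symm
  obtain ⟨W, σ, hyW, hσ⟩ := exists_section_of_stalk (i ∣_ U.1) y l' ((isPullback_morphismRestrict i U.1).lift_fst _ _ _)
  refine ⟨U.1.ι ''ᵁ W, ⟨y, hyW, rfl⟩, ?_⟩
  let W' := U.1.ι ''ᵁ W
  let τ : (W' : Scheme.{u}) ⟶ Z := (U.1.ι.isoImage W).inv ≫ σ ≫ (i ⁻¹ᵁ U.1).ι
  have hτ : τ ≫ i = W'.ι := by
    simp only [τ, Category.assoc]
    rw [← morphismRestrict_ι, reassoc_of% hσ, Scheme.Hom.isoImage_inv_ι]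
  let ρ := (isPullback_morphismRestrict i W').lift (𝟙 _) τ (by rw [Category.id_comp, hτ])
  have hρ : ρ ≫ (i ∣_ W') = 𝟙 _ := (isPullback_morphismRestrict i W').lift_fst _ _ _
  haveI : IsImmersion (i ∣_ W') := IsZariskiLocalAtTarget.restrict ‹IsImmersion i› _
  exact ⟨ρ, by rw [← cancel_mono (i ∣_ W'), Category.assoc, hρ, Category.comp_id, Category.id_comp], hρ⟩

variable {S X : Scheme.{u}}

/-- A directed family of subschemes exhausting the infinitesimal fibres contains the whole scheme. -/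
theorem exists_isIso [IsNoetherian S] (f : X ⟶ S) [LocallyOfFiniteType f] [QuasiCompact f]
    {D : Type u} [Preorder D] [IsDirected D (fun a b => a ≤ b)] [Nonempty D]
    (Xi : D → Scheme.{u}) (x : ∀ i, Xi i ⟶ X) (hx : ∀ i, IsImmersion (x i))
    (hmono : ∀ i j, i ≤ j → ∃ t : Xi i ⟶ Xi j, t ≫ x j = x i)
    (h : ∀ (s : S) (n : ℕ), ∃ i : D,
      IsIso (pullback.snd (x i) (pullback.fst f
        (Spec.map (CommRingCat.ofHom (Ideal.Quotient.mk (IsLocalRing.maximalIdeal (S.presheaf.stalk s) ^ (n + 1)))) ≫ S.fromSpecStalk s)))) :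
    ∃ i : D, IsIso (x i) := by
  haveI : IsLocallyNoetherian X := LocallyOfFiniteType.isLocallyNoetherian f
  haveI : CompactSpace X := QuasiCompact.compactSpace_of_compactSpace f
  haveI : IsNoetherian X := ⟨⟩
  classical
  let good : D → Set X := fun i => {p | ∃ U : X.Opens, p ∈ U ∧ IsIso (x i ∣_ U)}
  have hopen : ∀ i, IsOpen (good i) := fun i =>
    isOpen_iff_forall_mem_open.mpr fun p ⟨U, hp, hU⟩ => ⟨U, fun q hq => ⟨U, hq, hU⟩, U.2, hp⟩
  have hgood : ∀ i j, i ≤ j → good i ⊆ good j := by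
    rintro i j hij p ⟨U, hp, hU⟩
    obtain ⟨t, ht⟩ := hmono i j hij
    refine ⟨U, hp, ?_⟩
    haveI := hx j
    haveI : IsImmersion (x j ∣_ U) := IsZariskiLocalAtTarget.restrict (hx j) _
    let ρ := (isPullback_morphismRestrict (x j) U).lift (𝟙 _) (inv (x i ∣_ U) ≫ (x i ⁻¹ᵁ U).ι ≫ t) (by
      rw [Category.id_comp, Category.assoc, Category.assoc, ht, ← morphismRestrict_ι, IsIso.inv_hom_id_assoc])
    have hρ : ρ ≫ (x j ∣_ U) = 𝟙 _ := (isPullback_morphismRestrict (x j) U).lift_fst _ _ _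
    exact ⟨ρ, by rw [← cancel_mono (x j ∣_ U), Category.assoc, hρ, Category.comp_id, Category.id_comp], hρ⟩
  let Zc : D → Closeds X := fun i => ⟨(good i)ᶜ, (hopen i).isClosed_compl⟩
  obtain ⟨Zm, ⟨i₀, rfl⟩, hmin⟩ := wellFounded_lt.has_min (Set.range Zc) (Set.range_nonempty Zc)
  by_contra hno
  have hne : (Zc i₀ : Set X).Nonempty := by
    by_contra he
    refine hno ⟨i₀, ?_⟩
    have hall : ∀ p, ∃ U : X.Opens, p ∈ U ∧ IsIso (x i₀ ∣_ U) := fun p =>
      not_not.mp fun hp => he ⟨p, hp⟩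
    choose U hpU hU using hall
    exact (IsZariskiLocalAtTarget.iff_of_iSup_eq_top (P := MorphismProperty.isomorphisms Scheme) U
      (top_le_iff.mp fun p _ => Opens.mem_iSup.mpr ⟨p, hpU p⟩)).mpr hU
  have hstab : ∀ j, i₀ ≤ j → Zc j = Zc i₀ := fun j hj =>
    eq_of_le_of_not_lt (fun p hp hg => hp (hgood i₀ j hj hg)) (hmin (Zc j) ⟨j, rfl⟩)
  -- a maximal point of the bad set
  obtain ⟨p₀, hp₀⟩ := hne
  let Zs := (Zc i₀ : Set X)
  haveI : Nonempty Zs := ⟨⟨p₀, hp₀⟩⟩
  obtain ⟨C, hC⟩ : ∃ C, C ∈ irreducibleComponents Zs :=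
    ⟨irreducibleComponent ⟨p₀, hp₀⟩, irreducibleComponent_mem_irreducibleComponents _⟩
  obtain ⟨ξ, hξ⟩ := QuasiSober.sober (hC.1.image Subtype.val continuous_subtype_val.continuousOn)
    ((Zc i₀).isClosed.isClosedMap_subtype_val C (isClosed_of_mem_irreducibleComponents C hC))
  obtain ⟨ξ', hξ'C, hξ'⟩ := hξ.mem
  have hgen : ∀ y, y ⤳ ξ → y ∈ Zs → y = ξ := by
    intro y hy hyZ
    have hy' : (⟨y, hyZ⟩ : Zs) ⤳ ξ' := Topology.IsInducing.subtypeVal.specializes_iff.mp (by rw [hξ']; exact hy)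
    have hsub : C ⊆ closure {(⟨y, hyZ⟩ : Zs)} := by
      intro c hc
      refine specializes_iff_mem_closure.mp (hy'.trans (Topology.IsInducing.subtypeVal.specializes_iff.mp ?_))
      rw [hξ']
      exact hξ.specializes ⟨c, hc, rfl⟩
    have heq := hC.2 isIrreducible_singleton.closure hsub
    exact (hξ.specializes ⟨⟨y, hyZ⟩, heq (subset_closure rfl), rfl⟩).antisymm hy |>.eq.symm
  set O := X.presheaf.stalk ξ
  let c := X.fromSpecStalk ξ
  haveI : IsNoetherianRing O := inferInstance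
  let s := f ξ
  let J : Ideal O := (IsLocalRing.maximalIdeal (S.presheaf.stalk s)).map (f.stalkMap ξ).hom
  -- the test points
  have hn : ∀ n : ℕ, ∃ j, i₀ ≤ j ∧ ∀ k, j ≤ k → ∃ l : Spec (CommRingCat.of (O ⧸ J ^ (n + 1))) ⟶ Xi k,
      l ≫ x k = Spec.map (CommRingCat.ofHom (Ideal.Quotient.mk (J ^ (n + 1)))) ≫ c := by
    intro n
    obtain ⟨j, hj⟩ := h s n
    obtain ⟨j', hjj', hij'⟩ := directed_of (fun a b => a ≤ b) j i₀
    refine ⟨j', hij', fun k hk => ?_⟩
    let bar : (S.presheaf.stalk s) ⧸ (IsLocalRing.maximalIdeal (S.presheaf.stalk s) ^ (n + 1)) →+* O ⧸ J ^ (n + 1) :=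
      Ideal.quotientMap _ (f.stalkMap ξ).hom (Ideal.map_le_iff_le_comap.mp (Ideal.map_pow _ _ _).le)
    let w : Spec (CommRingCat.of (O ⧸ J ^ (n + 1))) ⟶ pullback f
        (Spec.map (CommRingCat.ofHom (Ideal.Quotient.mk (IsLocalRing.maximalIdeal (S.presheaf.stalk s) ^ (n + 1)))) ≫ S.fromSpecStalk s) :=
      pullback.lift (Spec.map (CommRingCat.ofHom (Ideal.Quotient.mk (J ^ (n + 1)))) ≫ c) (Spec.map (CommRingCat.ofHom bar)) (by
        rw [Category.assoc, ← Scheme.SpecMap_stalkMap_fromSpecStalk, ← Spec.map_comp_assoc, ← Spec.map_comp_assoc]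
        congr 2)
    obtain ⟨t, ht⟩ := hmono j k (hjj'.trans hk)
    haveI := hj
    refine ⟨w ≫ @inv _ _ _ _ _ hj ≫ pullback.fst _ _ ≫ t, ?_⟩
    rw [Category.assoc, Category.assoc, Category.assoc, ht, pullback.condition, IsIso.inv_hom_id_assoc]
    exact pullback.lift_fst _ _ _
  obtain ⟨i₁, hi₁, hl₁⟩ := hn 0
  -- the subscheme at the local scheme
  have hK : ∀ k, i₁ ≤ k → ∃ K : Ideal O, ∀ {R : Type u} [CommRing R] (φ : O →+* R),
      (∃ l : Spec (CommRingCat.of R) ⟶ Xi k, l ≫ x k = Spec.map (CommRingCat.ofHom φ) ≫ c) ↔ K ≤ RingHom.ker φ := by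
    intro k hk
    haveI := hx k
    let p := pullback.snd (x k) c
    have hJ : J ≤ IsLocalRing.maximalIdeal O :=
      Ideal.map_le_iff_le_comap.mpr fun a ha => map_nonunit (f.stalkMap ξ).hom a ha
    have hclosed : IsClosedImmersion p := by
      obtain ⟨l, hl⟩ := hl₁ k hk
      obtain ⟨q, hq⟩ : ∃ q : Spec (CommRingCat.of (O ⧸ J ^ (0 + 1))), Spec.map (CommRingCat.ofHom (Ideal.Quotient.mk (J ^ (0 + 1)))) q =
          IsLocalRing.closedPoint O :=
        (_root_.range_comap_of_surjective _ (Ideal.Quotient.mk (J ^ (0 + 1))) Ideal.Quotient.mk_surjective).ge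
          (show IsLocalRing.closedPoint O ∈ _ by
            rw [Ideal.mk_ker, PrimeSpectrum.mem_zeroLocus, zero_add, pow_one]; exact hJ)
      have hmem : IsLocalRing.closedPoint O ∈ Set.range p :=
        ⟨pullback.lift l _ hl q, by rw [← Scheme.Hom.comp_apply, pullback.lift_snd, hq]⟩
      refine IsClosedImmersion.of_isPreimmersion p ?_
      rw [← coborder_eq_univ_iff]
      exact Set.eq_univ_of_forall fun y =>
        ((IsLocalRing.specializes_closedPoint y).mem_open p.isLocallyClosed_range.isOpen_coborder (subset_coborder hmem) :)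
    obtain ⟨K, e, he⟩ := IsClosedImmersion.Spec_iff.mp hclosed
    refine ⟨K, fun {R} _ φ => ⟨?_, fun hle => ?_⟩⟩
    · rintro ⟨l, hl⟩
      let ψ := Spec.preimage (pullback.lift l _ hl ≫ e.hom)
      have e1 : CommRingCat.ofHom (Ideal.Quotient.mk K) ≫ ψ = CommRingCat.ofHom φ := Spec.map_injective (by
        rw [Spec.map_comp, Spec.map_preimage, Category.assoc, ← he, pullback.lift_snd])
      intro a ha
      have e2 := congrArg (fun g : _ ⟶ CommRingCat.of R => g.hom a) e1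
      rw [RingHom.mem_ker]
      refine e2.symm.trans ?_
      show ψ.hom (Ideal.Quotient.mk K a) = 0
      rw [Ideal.Quotient.eq_zero_iff_mem.mpr ha, map_zero]
    · refine ⟨Spec.map (CommRingCat.ofHom (Ideal.Quotient.lift K φ hle)) ≫ e.inv ≫ pullback.fst (x k) c, ?_⟩
      rw [Category.assoc, Category.assoc, pullback.condition,
        show e.inv ≫ p ≫ c = Spec.map (CommRingCat.ofHom (Ideal.Quotient.mk K)) ≫ c by rw [← Category.assoc, he, Iso.inv_hom_id_assoc],
        ← Spec.map_comp_assoc, ← CommRingCat.ofHom_comp, Ideal.Quotient.lift_comp_mk]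
  choose K hKiff using hK
  let K₁ := K i₁ le_rfl
  -- it is supported at the closed point
  have hrad : IsLocalRing.maximalIdeal O ≤ K₁.annihilator.radical := by
    rw [Ideal.radical_eq_sInf]
    refine le_sInf ?_
    rintro q ⟨hq, hqp⟩
    haveI := hqp
    by_contra hne
    let Q : PrimeSpectrum O := ⟨q, hqp⟩
    have hQne : c Q ≠ ξ := fun he => hne (by
      have h1 : Q = IsLocalRing.closedPoint O := (X.fromSpecStalk ξ).isEmbedding.injective
        (he.trans (Scheme.fromSpecStalk_closedPoint (X := X) (x := ξ)).symm)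
      exact le_of_eq (congrArg PrimeSpectrum.asIdeal h1).symm)
    have hQs : c Q ⤳ ξ := by
      have h1 := (Scheme.range_fromSpecStalk (X := X) (x := ξ)).le ⟨Q, rfl⟩
      exact h1
    have hQg : c Q ∈ good i₁ := not_not.mp fun hb => hQne (hgen _ hQs (by
      show c Q ∈ (Zc i₀ : Set X)
      rw [← hstab i₁ hi₁]
      exact hb))
    obtain ⟨U, hQU, hU⟩ := hQg
    let L := Localization.AtPrime q
    let g : Spec (CommRingCat.of L) ⟶ X := Spec.map (CommRingCat.ofHom (algebraMap O L)) ≫ c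
    have hgU : Set.range g ⊆ Set.range U.ι := by
      rw [Scheme.Opens.range_ι]
      rintro _ ⟨y, rfl⟩
      have hy : (PrimeSpectrum.comap (algebraMap O L) y).asIdeal ≤ q := by
        exact (Ideal.comap_mono (IsLocalRing.le_maximalIdeal y.2.ne_top)).trans
          (IsLocalization.AtPrime.comap_maximalIdeal L q).le
      exact (((PrimeSpectrum.le_iff_specializes (PrimeSpectrum.comap (algebraMap O L) y) Q).mp hy).map c.continuous).mem_open U.2 hQU
    have hle := (hKiff i₁ le_rfl (algebraMap O L)).mp ⟨IsOpenImmersion.lift U.ι g hgU ≫ inv (x i₁ ∣_ U) ≫ (x i₁ ⁻¹ᵁ U).ι, by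
      rw [Category.assoc, Category.assoc, ← morphismRestrict_ι, IsIso.inv_hom_id_assoc, IsOpenImmersion.lift_fac]⟩
    obtain ⟨t, ht⟩ := IsNoetherian.noetherian K₁
    have hann : ∀ a ∈ K₁, ∃ d : q.primeCompl, (d : O) * a = 0 := fun a ha =>
      (IsLocalization.map_eq_zero_iff q.primeCompl L a).mp (hle ha)
    choose d hd using fun a : (t : Set O) => hann a.1 (ht ▸ Submodule.subset_span a.2)
    have hdq : (∏ a, (d a : O)) ∉ q := fun hmem => by
      obtain ⟨a, -, ha⟩ := Ideal.IsPrime.prod_mem_iff.mp hmem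
      exact (d a).2 ha
    refine hdq (hq (Submodule.mem_annihilator.mpr fun a ha => ?_))
    rw [← ht] at ha
    induction ha using Submodule.span_induction with
    | mem a ha =>
      rw [smul_eq_mul, ← Finset.prod_erase_mul _ _ (Finset.mem_univ (⟨a, ha⟩ : (t : Set O))), _root_.mul_assoc, hd, mul_zero]
    | zero => exact smul_zero _
    | add a b _ _ ha hb => rw [smul_add, ha, hb, add_zero]
    | smul r a _ ha => rw [smul_comm, ha, smul_zero]
  obtain ⟨N, hN⟩ := Ideal.exists_pow_le_of_le_radical_of_fg hrad (IsNoetherian.noetherian _)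
  have hJm : J ≤ IsLocalRing.maximalIdeal O :=
    Ideal.map_le_iff_le_comap.mpr fun a ha => map_nonunit (f.stalkMap ξ).hom a ha
  -- Artin–Rees
  obtain ⟨r, hr⟩ := Ideal.exists_pow_inf_eq_pow_smul J (M := O) K₁
  obtain ⟨j, hij, hlj⟩ := hn (r + N)
  obtain ⟨k, hjk, hk⟩ := directed_of (fun a b => a ≤ b) j i₁
  have hzero : K k hk = ⊥ := by
    have h1 : K k hk ≤ J ^ (r + N + 1) := ((hKiff k hk (Ideal.Quotient.mk _)).mp (hlj k hjk)).trans (Ideal.mk_ker).le
    have h2 : K k hk ≤ K₁ := by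
      obtain ⟨t, ht⟩ := hmono i₁ k hk
      obtain ⟨l, hl⟩ := (hKiff i₁ le_rfl (Ideal.Quotient.mk K₁)).mpr (by rw [Ideal.mk_ker])
      exact ((hKiff k hk (Ideal.Quotient.mk K₁)).mp ⟨l ≫ t, by rw [Category.assoc, ht, hl]⟩).trans Ideal.mk_ker.le
    refine le_bot_iff.mp fun a ha => ?_
    have h3 : a ∈ (J ^ (r + N + 1) • (⊤ : Submodule O O) ⊓ K₁) :=
      ⟨by rw [smul_eq_mul, Ideal.mul_top]; exact h1 ha, h2 ha⟩
    rw [hr (r + N + 1) (by omega)] at h3
    have h4 : J ^ (r + N + 1 - r) • (J ^ r • (⊤ : Submodule O O) ⊓ K₁) ≤ K₁.annihilator • K₁ :=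
      Submodule.smul_mono ((Ideal.pow_right_mono hJm _).trans ((Ideal.pow_le_pow_right (by omega)).trans hN)) inf_le_right
    exact (h4.trans (le_of_eq (Submodule.annihilator_smul K₁))) h3
  obtain ⟨l, hl⟩ := (hKiff k hk (RingHom.id O)).mpr (by rw [hzero]; exact bot_le)
  haveI := hx k
  obtain ⟨W, hξW, hW⟩ := exists_isIso_restrict (x k) ξ l (by
    rw [hl, CommRingCat.ofHom_id]
    exact (congrArg (· ≫ c) (Spec.map_id _)).trans (Category.id_comp _))
  have hbad : ξ ∈ (Zc k : Set X) := by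
    rw [hstab k (hi₁.trans hk), ← hξ']
    exact ξ'.2
  exact hbad ⟨W, hξW, hW⟩

end GrothLib.FiltImm14
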